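import Mathlib
import Groth.Prelude.Def_Formal
import Groth.Agent.Lib.Helper4.BCSec1
import Groth.Agent.Lib.Helper4.HomLiftAlg1
import Groth.Agent.Lib.Helper4.IPow1
import Groth.Agent.Lib.Helper1.PullSec
import Groth.Agent.Lib.Helper1.AffPushEpi

set_option linter.style.haveILetI false
set_option linter.unusedVariables false
set_option linter.unusedSectionVars false
set_option linter.unusedSimpArgs false
set_option autoImplicit false
set_option backward.isDefEq.respectTransparency.types false
set_option synthInstance.maxHeartbeats 400000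
set_option maxHeartbeats 1600000

universe u

/-! helper7: the closed subscheme of a scheme over a ring defined by an ideal of the ring (light version adapted from helper4 ThickTriv1 sections Thick and Desc, to keep the import closure small): sections of the pullback, the unit is an epimorphism, and an isomorphism for quasi-coherent modules killed by the ideal -/

open CategoryTheory CategoryTheory.Limits AlgebraicGeometry Opposite TopologicalSpace
open Groth.Agent.Helper1 Groth.Agent.Helper1.QcCech Groth.Agent.Helper1.PullSec
open Groth.Agent.Lib.Helper4.HomLiftAlg1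
open Groth.Agent.Lib.Helper4.BaseChgRing1
open Groth.Agent.Lib.Helper4.BCSec1
open Groth.Agent.Lib.Helper4.TenSec2
open Groth.Agent.Lib.Helper4

namespace Groth.Agent.Helper7.FibAmple

section Zero

variable {X : Scheme.{u}}

/-- a morphism of modules vanishing on the sections over the affine opens is zero. -/
theorem hom_eq_zero_of_affine {M N : X.Modules} (g : M ⟶ N)
    (h : ∀ U : X.Opens, IsAffineOpen U → ∀ s : Γ(M, U), g.app U s = 0) : g = 0 := by
  apply Scheme.Modules.hom_ext
  intro W
  ext t
  change g.app W t = 0
  apply TwistSec.eq_of_locally N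
  intro x hx
  obtain ⟨_, ⟨U, hU, rfl⟩, hxU, hUW⟩ :=
    X.isBasis_affineOpens.exists_subset_of_mem_open hx W.isOpen
  refine ⟨U, hUW, hxU, ?_⟩
  rw [← QcExt.app_res, map_zero]
  exact h U hU _

end Zero

section Thick

variable (A : Type u) [CommRing A] (J : Ideal A) (X : Scheme.{u})
  [X.Over (Spec (CommRingCat.of A))]

/-- the closed subscheme `X ×_A Spec (A/J)`. -/
noncomputable abbrev XJ : Scheme.{u} :=
  pullback (X ↘ Spec (CommRingCat.of A)) (Spec.map (CommRingCat.ofHom (Ideal.Quotient.mk J)))

/-- the closed immersion of the closed subscheme. -/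
noncomputable abbrev pJ : XJ A J X ⟶ X :=
  pullback.fst (X ↘ Spec (CommRingCat.of A)) (Spec.map (CommRingCat.ofHom (Ideal.Quotient.mk J)))

/-- the closed subscheme is a scheme over the quotient ring. -/
noncomputable def overJ : (XJ A J X).Over (Spec (CommRingCat.of (A ⧸ J))) :=
  ⟨pullback.snd (X ↘ Spec (CommRingCat.of A)) (Spec.map (CommRingCat.ofHom (Ideal.Quotient.mk J)))⟩

attribute [local instance] overJ

theorem isPullback_J : IsPullback (pJ A J X) (XJ A J X ↘ Spec (CommRingCat.of (A ⧸ J)))
    (X ↘ Spec (CommRingCat.of A)) (Spec.map (CommRingCat.ofHom (Ideal.Quotient.mk J))) :=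
  IsPullback.of_hasPullback _ _

/-- the ideal generated by `J` in the coordinate ring of an open. -/
noncomputable def JW (W : X.Opens) : Ideal Γ(X, W) := J.map (alphaRing A X W)

attribute [local instance] secMod

theorem isAffineHom_pJ : IsAffineHom (pJ A J X) :=
  isAffineHom_of_sq (Ideal.Quotient.mk J) (pJ A J X) (isPullback_J A J X)

theorem σJ_surjective (M : X.Modules) [M.IsQuasicoherent] {W : X.Opens} (hW : IsAffineOpen W) :
    Function.Surjective (σ (pJ A J X) M W) := by
  have hbc := isBC_base (Ideal.Quotient.mk J) (pJ A J X) M (isPullback_J A J X) hW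
  obtain ⟨h1, -⟩ := isBC_surj_ker (Ideal.Quotient.mk J) Ideal.Quotient.mk_surjective _ hbc
  intro n
  obtain ⟨m, hm⟩ := h1 n
  refine ⟨m, ?_⟩
  rw [← hm]
  exact (res_self _ _ _).symm

theorem mem_of_σJ_eq_zero (M : X.Modules) [M.IsQuasicoherent] {W : X.Opens} (hW : IsAffineOpen W)
    (m : Γ(M, W)) (h : σ (pJ A J X) M W m = 0) :
    m ∈ JW A J X W • (⊤ : Submodule Γ(X, W) Γ(M, W)) := by
  have hbc := isBC_base (Ideal.Quotient.mk J) (pJ A J X) M (isPullback_J A J X) hW
  obtain ⟨-, h2⟩ := isBC_surj_ker (Ideal.Quotient.mk J) Ideal.Quotient.mk_surjective _ hbc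
  have h3 := h2 m ((res_self _ _ _).trans h)
  refine Submodule.smul_induction_on h3 (fun a ha n _ => ?_) (fun a b ha hb => add_mem ha hb)
  have ha' : a ∈ J := by
    rw [Ideal.mk_ker] at ha
    exact ha
  show alphaRing A X W a • n ∈ _
  exact Submodule.smul_mem_smul (Ideal.mem_map_of_mem _ ha') Submodule.mem_top

/-- sections of a module killed by the ideal are killed by the ideal it generates. -/
theorem eq_zero_of_mem_JW_smul (F : X.Modules) (hk : ∀ a ∈ J, Formal.smulMod A F a = 0)
    (W : X.Opens) (m : Γ(F, W))
    (hm : m ∈ JW A J X W • (⊤ : Submodule Γ(X, W) Γ(F, W))) : m = 0 := by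
  have h1 : JW A J X W ≤ Module.annihilator Γ(X, W) Γ(F, W) := by
    unfold JW
    rw [Ideal.map_le_iff_le_comap]
    intro a ha
    rw [Ideal.mem_comap, Module.mem_annihilator]
    intro n
    have h := congrArg (fun φ => Scheme.Modules.Hom.app φ W n) (hk a ha)
    exact h
  refine Submodule.smul_induction_on hm (fun r hr n _ => ?_)
    (fun a b ha hb => by rw [ha, hb, add_zero])
  exact Module.mem_annihilator.mp (h1 hr) n

end Thick

section Desc

variable (A : Type u) [CommRing A] (J : Ideal A) (X : Scheme.{u})
  [X.Over (Spec (CommRingCat.of A))] (M : X.Modules)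

/-- the unit `M ⟶ p_* p^* M` of the closed subscheme. -/
noncomputable abbrev eta : M ⟶ (Scheme.Modules.pushforward (pJ A J X)).obj
    ((Scheme.Modules.pullback (pJ A J X)).obj M) :=
  (Scheme.Modules.pullbackPushforwardAdjunction (pJ A J X)).unit.app M

theorem eta_app (W : X.Opens) (m : Γ(M, W)) :
    (eta A J X M).app W m = σ (pJ A J X) M W m := rfl

variable [M.IsQuasicoherent]

theorem epi_eta : Epi (eta A J X M) :=
  AffPushEpi.epi_of_surjective_on_affine _ fun _ hU => σJ_surjective A J X M hU

/-- a quasi-coherent module killed by the ideal is the direct image of its restriction to the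
closed subscheme defined by the ideal. -/
theorem isIso_eta_of_killed (hk : ∀ a ∈ J, Formal.smulMod A M a = 0) :
    IsIso (eta A J X M) := by
  haveI := epi_eta A J X M
  have h1 : kernel.ι (eta A J X M) = 0 := by
    apply hom_eq_zero_of_affine
    intro U hU s
    apply eq_zero_of_mem_JW_smul A J X M hk U
    apply mem_of_σJ_eq_zero A J X M hU
    have h := congrArg (fun φ => Scheme.Modules.Hom.app φ U s) (kernel.condition (eta A J X M))
    exact h
  haveI : Mono (eta A J X M) := Preadditive.mono_of_kernel_zero h1
  exact isIso_of_mono_of_epi _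

end Desc

end Groth.Agent.Helper7.FibAmple
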