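import Mathlib
import Groth.Prelude.Def_Formal
import Groth.Prelude.Def_Canon
import Groth.Prelude.Def_DDual2
import Groth.Agent.Lib.Helper4.HHFin2
import Groth.Agent.Lib.Helper4.IPow1
import Groth.Agent.Lib.Helper4.TwExact
import Groth.Agent.Lib.Helper4.T2Main1
import Groth.Agent.Lib.Helper1.CohAbel
import Groth.Agent.Lib.Helper1.SerreAmple1
import Groth.Agent.Lib.Helper1.InvFt
import Groth.Agent.S0016

set_option linter.style.haveILetI false
set_option linter.unusedVariables false
set_option linter.unusedSectionVars false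
set_option autoImplicit false
set_option backward.isDefEq.respectTransparency.types false
set_option backward.isDefEq.respectTransparency false
set_option synthInstance.maxHeartbeats 400000
set_option maxHeartbeats 1600000

universe u

/-! helper7: Nakayama descending induction for Serre vanishing: over a Noetherian ring, vanishing of the higher cohomology of high twists of coherent modules killed by finitely many elements of the radical gives it for all coherent modules (key step of EGA III 4.7.1) -/

open CategoryTheory CategoryTheory.Limits AlgebraicGeometry Opposite TopologicalSpace MonoidalCategory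

namespace Groth.Agent.Helper7.FibAmple

open Groth.Agent.Helper1 Groth.Agent.Lib.Helper4

section Lin

variable {X : Scheme.{u}}

/-- the sheafification adjunction for modules over the structure sheaf. -/
noncomputable abbrev adjSh (X : Scheme.{u}) :=
  PresheafOfModules.sheafificationAdjunction.{u, u, u, u} (R := X.ringCatSheaf)
    (𝟙 X.ringCatSheaf.obj)

/-- tensoring on the right with a fixed module commutes with multiplication by global functions. -/
theorem tensorRightMod_map_smulModΓ (M F : X.Modules) (r : Coh.Γtop X) :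
    (DCoh.tensorRightMod M).map (Formal.smulModΓ F r) =
      Formal.smulModΓ ((DCoh.tensorRightMod M).obj F) r := by
  change DCoh.shP.map (DCoh.toP.map (Formal.smulModΓ F r) ▷ CohB1.toPMod M) =
    Formal.smulModΓ (DCoh.shP.obj (DCoh.toP.obj F ⊗ CohB1.toPMod M)) r
  apply ((adjSh X).homEquiv _ _).injective
  rw [Adjunction.homEquiv_unit, Adjunction.homEquiv_unit]
  refine ((adjSh X).unit_naturality
    (DCoh.toP.map (Formal.smulModΓ F r) ▷ CohB1.toPMod M)).trans ?_
  apply PresheafOfModules.hom_ext
  intro U
  apply ModuleCat.MonoidalCategory.tensor_ext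
  intro m n
  let Q : CohB1.PMod X := DCoh.toP.obj F ⊗ CohB1.toPMod M
  let η := ((adjSh X).unit.app Q).app U
  let c : ((X.sheaf.obj ⋙ forget₂ CommRingCat RingCat).obj U) := Coh.resTop X U r
  have h1 : (c • m) ⊗ₜ[((X.sheaf.obj ⋙ forget₂ CommRingCat RingCat).obj U)] n =
      c • (m ⊗ₜ[((X.sheaf.obj ⋙ forget₂ CommRingCat RingCat).obj U)] n) :=
    (TensorProduct.smul_tmul' c m n).symm
  change η.hom ((c • m) ⊗ₜ n) = _
  rw [h1]
  exact η.hom.map_smul c (m ⊗ₜ n)

end Lin

section Core

variable (A : Type u) [CommRing A] {X : Scheme.{u}} [X.Over (Spec (CommRingCat.of A))]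
  (L : X.Modules)

/-- the twisting functor by a tensor power. -/
noncomputable abbrev tw (d : ℕ) : X.Modules ⥤ X.Modules :=
  DCoh.tensorRightMod (CohB1.tensorPow L d)

theorem tw_map_smulMod (d : ℕ) (F : X.Modules) (a : A) :
    (tw L d).map (Formal.smulMod A F a) = Formal.smulMod A ((tw L d).obj F) a :=
  tensorRightMod_map_smulModΓ _ F _

theorem HHlin_smulMod (G : X.Modules) (a : A) (q : ℕ) (w : Coh.HH X G q) :
    Canon.HHlin A (Formal.smulMod A G a) q w = a • w := rfl

variable {L}

theorem isCoh_tw (hL : PicF.IsInvertible L) (F : X.Modules) (hF : Coh.IsCoh F) (d : ℕ) :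
    Coh.IsCoh ((tw L d).obj F) :=
  SerreAmple.isCoh_tensor F _ hF
    (InvQc.isCoh_of_isInvertible _ (TwForm.isInvertible_tensorPow hL d))

/-- the two short exact sequences attached to an endomorphism. -/
theorem shortExact_kernel_image {F : X.Modules} (u : F ⟶ F) :
    (ShortComplex.mk (kernel.ι u) (Abelian.factorThruImage u) (by
      rw [← cancel_mono (Abelian.image.ι u), Category.assoc, Abelian.image.fac,
        kernel.condition, zero_comp])).ShortExact := by
  let S : ShortComplex X.Modules := ShortComplex.mk (kernel.ι u) (Abelian.factorThruImage u) (by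
      rw [← cancel_mono (Abelian.image.ι u), Category.assoc, Abelian.image.fac,
        kernel.condition, zero_comp])
  let S' : ShortComplex X.Modules := ShortComplex.mk (kernel.ι u) u (kernel.condition _)
  have hS' : S'.Exact := ShortComplex.exact_of_f_is_kernel _ (kernelIsKernel u)
  let α : S ⟶ S' :=
    { τ₁ := 𝟙 _
      τ₂ := 𝟙 _
      τ₃ := Abelian.image.ι u
      comm₁₂ := by simp [S, S']
      comm₂₃ := by
        show 𝟙 F ≫ u = Abelian.factorThruImage u ≫ Abelian.image.ι u
        rw [Abelian.image.fac, Category.id_comp] }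
  have : Epi α.τ₁ := inferInstanceAs (Epi (𝟙 _))
  have : IsIso α.τ₂ := inferInstanceAs (IsIso (𝟙 _))
  have : Mono α.τ₃ := inferInstanceAs (Mono (Abelian.image.ι u))
  have hS : S.Exact := (ShortComplex.exact_iff_of_epi_of_isIso_of_mono α).2 hS'
  have : Mono S.f := inferInstanceAs (Mono (kernel.ι u))
  have : Epi S.g := inferInstanceAs (Epi (Abelian.factorThruImage u))
  exact { exact := hS }

theorem shortExact_image_cokernel {F : X.Modules} (u : F ⟶ F) :
    (ShortComplex.mk (Abelian.image.ι u) (cokernel.π u) (kernel.condition _)).ShortExact := by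
  let S₂ : ShortComplex X.Modules := ShortComplex.mk (Abelian.image.ι u)
    (cokernel.π u) (kernel.condition _)
  have hS₂ : S₂.Exact :=
    ShortComplex.exact_of_f_is_kernel _ (kernelIsKernel (cokernel.π u))
  haveI : Mono S₂.f := inferInstanceAs (Mono (Abelian.image.ι u))
  haveI : Epi S₂.g := inferInstanceAs (Epi (cokernel.π u))
  exact { exact := hS₂ }

variable [IsNoetherianRing A] [IsProper (X ↘ Spec (CommRingCat.of A))]

/-- the key step: multiplication by an element of the radical is surjective on the cohomology of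
the twist once the cohomology of the twisted kernel and cokernel vanish in the adjacent degrees;
hence the cohomology vanishes. -/
theorem step (hL : PicF.IsInvertible L) (a : A) (ha : a ∈ Ideal.jacobson (⊥ : Ideal A))
    (F : X.Modules) (hF : Coh.IsCoh F) (d q : ℕ)
    (hK : Subsingleton (Coh.HH X ((tw L d).obj (kernel (Formal.smulMod A F a))) (q + 1)))
    (hC : Subsingleton (Coh.HH X ((tw L d).obj (cokernel (Formal.smulMod A F a))) q)) :
    Subsingleton (Coh.HH X ((tw L d).obj F) q) := by
  obtain ⟨v, hv⟩ : ∃ v : F ⟶ F, v = Formal.smulMod A F a := ⟨_, rfl⟩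
  rw [← hv] at hK hC
  have hS1 := shortExact_kernel_image v
  have hS2 := shortExact_image_cokernel v
  have hloc := TwExact.locGen_of_isInvertible _ (TwForm.isInvertible_tensorPow hL d)
  have hT1 := TwExact.shortExact_map hloc hS1
  have hT2 := TwExact.shortExact_map hloc hS2
  have key : ∀ w : Coh.HH X ((tw L d).obj F) q,
      ∃ y : Coh.HH X ((tw L d).obj F) q, a • y = w := by
    intro w
    have h0 : Canon.HHlin A ((tw L d).map (cokernel.π v)) q w = 0 :=
      @Subsingleton.elim _ hC _ _
    obtain ⟨z, hz⟩ := HHFin2.exact_f_g A hT2 q w h0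
    have h1 : HHFin2.deltaLin A hT1 q z = 0 := @Subsingleton.elim _ hK _ _
    obtain ⟨y, hy⟩ := HHFin2.exact_g_delta A hT1 q z h1
    refine ⟨y, ?_⟩
    have e1 : (tw L d).map (Abelian.factorThruImage v) ≫ (tw L d).map (Abelian.image.ι v) =
        Formal.smulMod A ((tw L d).obj F) a := by
      rw [← Functor.map_comp, Abelian.image.fac, hv]
      exact tw_map_smulMod A L d F a
    have hy' : Canon.HHlin A ((tw L d).map (Abelian.factorThruImage v)) q y = z := hy
    have hz' : Canon.HHlin A ((tw L d).map (Abelian.image.ι v)) q z = w := hz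
    calc a • y = Canon.HHlin A (Formal.smulMod A ((tw L d).obj F) a) q y :=
          (HHlin_smulMod A _ a q y).symm
      _ = Canon.HHlin A ((tw L d).map (Abelian.factorThruImage v) ≫
            (tw L d).map (Abelian.image.ι v)) q y := by rw [e1]
      _ = Canon.HHlin A ((tw L d).map (Abelian.image.ι v)) q
            (Canon.HHlin A ((tw L d).map (Abelian.factorThruImage v)) q y) :=
          HHFin1.HHlin_comp A _ _ q y
      _ = w := by rw [hy', hz']
  haveI hfin : Module.Finite A (Coh.HH X ((tw L d).obj F) q) :=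
    T2Main1.t2 A X _ (isCoh_tw hL F hF d) q
  have htop : (⊤ : Submodule A (Coh.HH X ((tw L d).obj F) q)) ≤
      Ideal.span {a} • (⊤ : Submodule A (Coh.HH X ((tw L d).obj F) q)) := by
    intro w _
    obtain ⟨y, rfl⟩ := key w
    exact Submodule.smul_mem_smul (Ideal.subset_span rfl) trivial
  have hbot := Submodule.eq_bot_of_le_smul_of_le_jacobson_bot (Ideal.span {a})
    (⊤ : Submodule A (Coh.HH X ((tw L d).obj F) q)) (Module.finite_def.mp hfin) htop
    ((Ideal.span_singleton_le_iff_mem _).mpr ha)
  refine subsingleton_of_forall_eq 0 (fun w => ?_)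
  have hw : w ∈ (⊤ : Submodule A (Coh.HH X ((tw L d).obj F) q)) := trivial
  rw [hbot] at hw
  exact (Submodule.mem_bot A).mp hw

/-- **descending induction**: if the higher cohomology of the high twists of the coherent modules
killed by finitely many elements of the radical vanishes, then so does that of all coherent
modules. -/
theorem vanishing_of_killed (hL : PicF.IsInvertible L) {r : ℕ} (x : Fin r → A)
    (hx : ∀ i, x i ∈ Ideal.jacobson (⊥ : Ideal A))
    (hSV : ∀ F : X.Modules, Coh.IsCoh F → (∀ i, Formal.smulMod A F (x i) = 0) →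
      ∃ d₁ : ℕ, ∀ d, d₁ ≤ d → ∀ q, 0 < q → Subsingleton (Coh.HH X ((tw L d).obj F) q))
    (F : X.Modules) (hF : Coh.IsCoh F) :
    ∃ d₀ : ℕ, ∀ d, d₀ ≤ d → ∀ q, 0 < q → Subsingleton (Coh.HH X ((tw L d).obj F) q) := by
  classical
  haveI : CompactSpace X :=
    QuasiCompact.compactSpace_of_compactSpace (X ↘ Spec (CommRingCat.of A))
  haveI : QuasiSeparatedSpace X :=
    quasiSeparatedSpace_of_quasiSeparated (X ↘ Spec (CommRingCat.of A))
  haveI : IsLocallyNoetherian X :=
    LocallyOfFiniteType.isLocallyNoetherian (X ↘ Spec (CommRingCat.of A))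
  obtain ⟨D, hD⟩ := Groth.Agent.S0016.result X
  obtain ⟨P, hP⟩ : ∃ P : ℕ → ℕ → Prop, ∀ k q, P k q ↔ ∀ G : X.Modules, Coh.IsCoh G →
      (∀ i : Fin r, i.val < k → Formal.smulMod A G (x i) = 0) →
      ∃ d₀ : ℕ, ∀ d, d₀ ≤ d → ∀ q', q ≤ q' → Subsingleton (Coh.HH X ((tw L d).obj G) q') :=
    ⟨_, fun _ _ => Iff.rfl⟩
  have hbig : ∀ q, D ≤ q → ∀ k, P k q := by
    intro q hq k
    rw [hP]
    intro G hG _
    exact ⟨0, fun d _ q' hq' => hD _ (isCoh_tw hL G hG d).1 q' (hq.trans hq')⟩
  have hbase : ∀ q, 0 < q → P r q := by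
    intro q hq
    rw [hP]
    intro G hG hk
    obtain ⟨d₁, hd₁⟩ := hSV G hG (fun i => hk i i.2)
    exact ⟨d₁, fun d hd q' hq' => hd₁ d hd q' (lt_of_lt_of_le hq hq')⟩
  have hstep : ∀ q, 0 < q → (∀ k, k ≤ r → P k (q + 1)) → ∀ m k, k + m = r → P k q := by
    intro q hq hQ m
    induction m with
    | zero =>
      intro k hk
      have hkr : k = r := by omega
      rw [hkr]
      exact hbase q hq
    | succ m ihm =>
      intro k hk
      have hkr : k < r := by omega
      have h1 := ihm (k + 1) (by omega)
      have h2 := hQ k (by omega)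
      rw [hP] at h1 h2 ⊢
      intro G hG hkill
      have hKc : Coh.IsCoh (kernel (Formal.smulMod A G (x ⟨k, hkr⟩))) :=
        FtLocal.isCoh_kernel hG hG _
      have hCc : Coh.IsCoh (cokernel (Formal.smulMod A G (x ⟨k, hkr⟩))) :=
        FtLocal.isCoh_cokernel hG hG _
      have hKk : ∀ i : Fin r, i.val < k →
          Formal.smulMod A (kernel (Formal.smulMod A G (x ⟨k, hkr⟩))) (x i) = 0 := by
        intro i hi
        rw [← cancel_mono (kernel.ι (Formal.smulMod A G (x ⟨k, hkr⟩))), zero_comp,
          IPow1.smulMod_nat A, hkill i hi, comp_zero]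
      have hCk : ∀ i : Fin r, i.val < k + 1 →
          Formal.smulMod A (cokernel (Formal.smulMod A G (x ⟨k, hkr⟩))) (x i) = 0 := by
        intro i hi
        rw [← cancel_epi (cokernel.π (Formal.smulMod A G (x ⟨k, hkr⟩))), comp_zero,
          ← IPow1.smulMod_nat A]
        rcases Nat.lt_succ_iff_lt_or_eq.mp hi with h | h
        · rw [hkill i h, zero_comp]
        · have hi' : i = ⟨k, hkr⟩ := Fin.ext h
          rw [hi']
          exact cokernel.condition _
      obtain ⟨dK, hdK⟩ := h2 _ hKc hKk
      obtain ⟨dC, hdC⟩ := h1 _ hCc hCk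
      obtain ⟨dG, hdG⟩ := h2 G hG hkill
      refine ⟨max dK (max dC dG), fun d hd q' hq' => ?_⟩
      have hd1 : dK ≤ d := le_trans (le_max_left _ _) hd
      have hd2 : dC ≤ d := le_trans (le_trans (le_max_left _ _) (le_max_right _ _)) hd
      have hd3 : dG ≤ d := le_trans (le_trans (le_max_right _ _) (le_max_right _ _)) hd
      rcases Nat.eq_or_lt_of_le hq' with h | h
      · rw [← h]
        exact step A hL (x ⟨k, hkr⟩) (hx _) G hG d q (hdK d hd1 (q + 1) le_rfl)
          (hdC d hd2 q le_rfl)
      · exact hdG d hd3 q' h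
  have hQ : ∀ n q, 0 < q → D ≤ q + n → ∀ k, k ≤ r → P k q := by
    intro n
    induction n with
    | zero =>
      intro q _ hq k _
      exact hbig q (by omega) k
    | succ n ih =>
      intro q hq hqn k hk
      exact hstep q hq (fun k' hk' => ih (q + 1) (by omega) (by omega) k' hk') (r - k) k
        (by omega)
  have hfin := hQ D 1 one_pos (by omega) 0 (Nat.zero_le _)
  rw [hP] at hfin
  obtain ⟨d₀, hd₀⟩ := hfin F hF (fun i hi => absurd hi (Nat.not_lt_zero _))
  exact ⟨d₀, fun d hd q hq => hd₀ d hd q hq⟩

end Core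

end Groth.Agent.Helper7.FibAmple
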