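import Mathlib
import Groth.Prelude.Def_PicGrp
import Groth.Agent.Lib.Helper7.FibAmple.Core
import Groth.Agent.Lib.Helper7.FibAmple.Thick
import Groth.Agent.Lib.Helper4.ClBridge2
import Groth.Agent.Lib.Helper1.PullPow
import Groth.Agent.Lib.Helper1.AmpleH1
import Groth.Agent.Lib.Lead.PBQc
import Groth.Agent.S0012

set_option linter.style.haveILetI false
set_option linter.unusedVariables false
set_option linter.unusedSectionVars false
set_option autoImplicit false
set_option backward.isDefEq.respectTransparency.types false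
set_option backward.isDefEq.respectTransparency false
set_option synthInstance.maxHeartbeats 400000
set_option maxHeartbeats 1600000

universe u

/-! helper7: ampleness from the closed subscheme of an ideal in the radical (EGA III 4.7.1, local form): for a scheme proper over a Noetherian ring and an ideal J contained in the Jacobson radical, an invertible module which is ample on the closed subscheme defined by J satisfies Serre vanishing, hence is ample -/

open CategoryTheory CategoryTheory.Limits AlgebraicGeometry Opposite TopologicalSpace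

namespace Groth.Agent.Helper7.FibAmple

open Groth.Agent.Helper1 Groth.Agent.Lib.Helper4

section Base

variable (A : Type u) [CommRing A] (J : Ideal A) {X : Scheme.{u}}
  [X.Over (Spec (CommRingCat.of A))]

/-- a module killed by generators of an ideal is killed by the ideal. -/
theorem killed_of_gens {r : ℕ} (x : Fin r → A) (hJ : Ideal.span (Set.range x) = J)
    (F : X.Modules) (hk : ∀ i, Formal.smulMod A F (x i) = 0) :
    ∀ a ∈ J, Formal.smulMod A F a = 0 := by
  intro a ha
  rw [← hJ] at ha
  induction ha using Submodule.span_induction with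
  | mem y hy =>
    obtain ⟨i, rfl⟩ := hy
    exact hk i
  | zero => exact IPow1.smulMod_zero A F
  | add y z _ _ hy hz => rw [IPow1.smulMod_add, hy, hz, add_zero]
  | smul c y _ hy => rw [smul_eq_mul, ← IPow1.smulMod_mul A F c y, hy, zero_comp]

variable [IsNoetherianRing A] [IsProper (X ↘ Spec (CommRingCat.of A))] {L : X.Modules}

/-- Serre vanishing for the coherent modules killed by the ideal, when the module is ample on the
closed subscheme defined by the ideal. -/
theorem vanishing_of_isAmple_thick (hL : PicF.IsInvertible L)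
    (hamp : CohB1.IsAmple ((Scheme.Modules.pullback (pJ A J X)).obj L))
    (F : X.Modules) (hF : Coh.IsCoh F) (hk : ∀ a ∈ J, Formal.smulMod A F a = 0) :
    ∃ d₁ : ℕ, ∀ d, d₁ ≤ d → ∀ q, 0 < q → Subsingleton (Coh.HH X ((tw L d).obj F) q) := by
  haveI : F.IsQuasicoherent := hF.1
  haveI := isIso_eta_of_killed A J X F hk
  obtain ⟨p, hp⟩ : ∃ p : XJ A J X ⟶ X, p = pJ A J X := ⟨_, rfl⟩
  haveI : IsAffineHom p := by rw [hp]; exact isAffineHom_pJ A J X
  obtain ⟨G, hGdef⟩ : ∃ G : (XJ A J X).Modules, G = (Scheme.Modules.pullback p).obj F :=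
    ⟨_, rfl⟩
  haveI : G.IsQuasicoherent := by
    rw [hGdef]; exact Groth.Agent.Lead.PB.isQuasicoherent_pullback p F
  have hG : Coh.IsCoh G := by
    refine ⟨inferInstance, ?_⟩
    rw [hGdef]
    exact Groth.Agent.Lead.PB.isFT_pullback p F hF.2
  have hamp' : CohB1.IsAmple ((Scheme.Modules.pullback p).obj L) := by rw [hp]; exact hamp
  obtain ⟨d₁, hd₁⟩ := SerreAmple.serre_vanishing (A ⧸ J)
    (pullback.snd (X ↘ Spec (CommRingCat.of A))
      (Spec.map (CommRingCat.ofHom (Ideal.Quotient.mk J)))) hamp' G hG
  refine ⟨d₁, fun d hd q hq => ?_⟩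
  have h1 := hd₁ d hd q hq
  have hLd := TwForm.isInvertible_tensorPow hL d
  obtain ⟨φ⟩ := ClBridge2.nonempty_projFormula p G (CohB1.tensorPow L d) hLd
  have hη : IsIso ((Scheme.Modules.pullbackPushforwardAdjunction p).unit.app F) := by
    rw [hp]; exact (inferInstance : IsIso (eta A J X F))
  let η : F ≅ (Scheme.Modules.pushforward p).obj G := by
    rw [hGdef]
    exact asIso ((Scheme.Modules.pullbackPushforwardAdjunction p).unit.app F)
  let e1 : CohB1.tensorMod F (CohB1.tensorPow L d) ≅
      CohB1.tensorMod ((Scheme.Modules.pushforward p).obj G) (CohB1.tensorPow L d) :=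
    PicGrp.tensorModIso η (Iso.refl _)
  let e2 : CohB1.tensorMod G ((Scheme.Modules.pullback p).obj (CohB1.tensorPow L d)) ≅
      CohB1.tensorMod G (CohB1.tensorPow ((Scheme.Modules.pullback p).obj L) d) :=
    PicGrp.tensorModIso (Iso.refl _) (PullPow.powIso p hL d)
  let e : CohB1.tensorMod F (CohB1.tensorPow L d) ≅
      (Scheme.Modules.pushforward p).obj
        (CohB1.tensorMod G (CohB1.tensorPow ((Scheme.Modules.pullback p).obj L) d)) :=
    e1 ≪≫ φ ≪≫ (Scheme.Modules.pushforward p).mapIso e2
  haveI : Coh.IsQCoh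
      (CohB1.tensorMod G (CohB1.tensorPow ((Scheme.Modules.pullback p).obj L) d)) :=
    (SerreAmple.isCoh_tensor G _ hG
      (InvQc.isCoh_of_isInvertible _ (TwForm.isInvertible_tensorPow hamp'.1 d))).1
  obtain ⟨ψ⟩ := Groth.Agent.S0012.result p
    (CohB1.tensorMod G (CohB1.tensorPow ((Scheme.Modules.pullback p).obj L) d)) q
  haveI := h1
  have h2 : Subsingleton (Coh.HH X ((Coh.push p).obj
      (CohB1.tensorMod G (CohB1.tensorPow ((Scheme.Modules.pullback p).obj L) d))) q) :=
    ψ.symm.toEquiv.subsingleton
  exact ClBridge2.subsingleton_HH_of_iso e.symm q h2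

/-- **Serre vanishing from ampleness on the closed subscheme defined by an ideal contained in
the radical**. -/
theorem serre_vanishing_of_isAmple_thick (hJ : J ≤ Ideal.jacobson (⊥ : Ideal A))
    (hL : PicF.IsInvertible L)
    (hamp : CohB1.IsAmple ((Scheme.Modules.pullback (pJ A J X)).obj L))
    (F : X.Modules) (hF : Coh.IsCoh F) :
    ∃ d₀ : ℕ, ∀ d, d₀ ≤ d → ∀ q, 0 < q →
      Subsingleton (Coh.HH X (CohB1.tensorMod F (CohB1.tensorPow L d)) q) := by
  obtain ⟨r, x, hx⟩ := (Submodule.fg_iff_exists_fin_generating_family).1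
    (IsNoetherian.noetherian J)
  refine vanishing_of_killed A hL x
    (fun i => hJ (by rw [← hx]; exact Submodule.subset_span ⟨i, rfl⟩)) ?_ F hF
  intro G hG hk
  exact vanishing_of_isAmple_thick A J hL hamp G hG (killed_of_gens A J x hx G hk)

/-- **ampleness from ampleness on the closed subscheme defined by an ideal contained in the
radical**: for a scheme proper over a Noetherian ring. -/
theorem isAmple_of_isAmple_thick (hJ : J ≤ Ideal.jacobson (⊥ : Ideal A))
    (hL : PicF.IsInvertible L)
    (hamp : CohB1.IsAmple ((Scheme.Modules.pullback (pJ A J X)).obj L)) :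
    CohB1.IsAmple L := by
  haveI : CompactSpace X :=
    QuasiCompact.compactSpace_of_compactSpace (X ↘ Spec (CommRingCat.of A))
  haveI : IsLocallyNoetherian X :=
    LocallyOfFiniteType.isLocallyNoetherian (X ↘ Spec (CommRingCat.of A))
  refine AmpleH1.isAmple_of_H1 hL ?_
  intro I i hi hI
  haveI : Mono i := hi
  have hIc : Coh.IsCoh I := FtLocal.isCoh_of_mono i
    (InvQc.isCoh_of_isInvertible _ (TwForm.isInvertible_tensorPow hL 0)) hI
  obtain ⟨d₀, hd₀⟩ := serre_vanishing_of_isAmple_thick A J hJ hL hamp I hIc
  exact ⟨d₀, hd₀ (d₀ + 1) (Nat.le_succ _) 1 Nat.one_pos⟩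

end Base

end Groth.Agent.Helper7.FibAmple
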