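import Mathlib
import Groth.Agent.Lib.Helper7.FibAmple.Base
import Groth.Agent.Lib.Helper7.LimAmple.Rel
import Groth.Agent.Lib.Helper7.StalkLim.Cone
import Groth.Agent.Lib.Helper1.AmpleRestr
import Groth.Agent.Lib.Helper1.PullAmple
import Groth.Agent.Lib.Helper1.PullQA
import Groth.Agent.Lib.Helper1.PullBC

set_option linter.style.haveILetI false
set_option linter.unusedVariables false
set_option linter.unusedSectionVars false
set_option autoImplicit false
set_option backward.isDefEq.respectTransparency.types false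
set_option backward.isDefEq.respectTransparency false
set_option synthInstance.maxHeartbeats 400000
set_option maxHeartbeats 1600000

universe u

/-! helper7: ampleness on a fibre spreads out (EGA III 4.7.1): for a proper morphism to a locally Noetherian scheme, an invertible module ample on the fibre at a point is ample on the base change to the local scheme at the point (Nakayama induction) and hence over an affine open neighbourhood of the point (limit descent of ampleness) -/

open CategoryTheory CategoryTheory.Limits AlgebraicGeometry Opposite TopologicalSpace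

namespace Groth.Agent.Helper7.FibAmple

open Groth.Agent.Helper1 Groth.Agent.Helper7.ConsMod Groth.Agent.Helper7.StalkLim

section Restr

/-- ampleness over an open passes to the smaller quasi-compact opens. -/
theorem isAmple_restrict_of_le {X : Scheme.{u}} (L : X.Modules) {U V : X.Opens} (hUV : U ≤ V)
    (hU : IsCompact (U : Set X)) (h : CohB1.IsAmple (L.restrict V.ι)) :
    CohB1.IsAmple (L.restrict U.ι) := by
  haveI : CompactSpace (↑U : Scheme.{u}) := isCompact_iff_compactSpace.mp hU
  have hj : Topology.IsEmbedding (X.homOfLE hUV) :=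
    (X.homOfLE hUV).isOpenEmbedding.isEmbedding
  have h1 := PullAmple.isAmple_pullback_of_isEmbedding (X.homOfLE hUV) hj h
  exact TwistAmpleOpen.isAmple_of_iso
    ((Scheme.Modules.pullback (X.homOfLE hUV)).mapIso
        ((Scheme.Modules.restrictFunctorIsoPullback V.ι).app L) ≪≫
      (pullbackFacIso (X.homOfLE_ι hUV) L).symm ≪≫
      ((Scheme.Modules.restrictFunctorIsoPullback U.ι).app L).symm) h1

end Restr

section Stalk

variable {X Y : Scheme.{u}} (f : X ⟶ Y) (y : Y)

/-- the base change to the local scheme at a point, as a scheme over the local ring. -/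
noncomputable def overStalk :
    (pullback f (Y.fromSpecStalk y)).Over (Spec (CommRingCat.of ↑(Y.presheaf.stalk y))) :=
  ⟨pullback.snd f (Y.fromSpecStalk y)⟩

attribute [local instance] overStalk

theorem isProper_overStalk [IsProper f] :
    IsProper ((pullback f (Y.fromSpecStalk y)) ↘ Spec (CommRingCat.of ↑(Y.presheaf.stalk y))) :=
  (inferInstance : IsProper (pullback.snd f (Y.fromSpecStalk y)))

/-- the closed fibre of the base change to the local scheme at a point is the fibre. -/
theorem isPullback_closedFibre :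
    IsPullback (pJ ↑(Y.presheaf.stalk y) (IsLocalRing.maximalIdeal ↑(Y.presheaf.stalk y))
        (pullback f (Y.fromSpecStalk y)) ≫ pullback.fst f (Y.fromSpecStalk y))
      (pullback.snd ((pullback f (Y.fromSpecStalk y)) ↘
          Spec (CommRingCat.of ↑(Y.presheaf.stalk y)))
        (Spec.map (CommRingCat.ofHom
          (Ideal.Quotient.mk (IsLocalRing.maximalIdeal ↑(Y.presheaf.stalk y))))))
      f (Y.fromSpecResidueField y) :=
  (IsPullback.of_hasPullback ((pullback f (Y.fromSpecStalk y)) ↘
      Spec (CommRingCat.of ↑(Y.presheaf.stalk y)))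
    (Spec.map (CommRingCat.ofHom
      (Ideal.Quotient.mk (IsLocalRing.maximalIdeal ↑(Y.presheaf.stalk y)))))).paste_horiz
    (IsPullback.of_hasPullback f (Y.fromSpecStalk y))

variable [IsProper f] [IsLocallyNoetherian Y] (L : X.Modules)

/-- **ampleness on the fibre gives ampleness over the local ring**: for a proper morphism to a
locally Noetherian scheme, an invertible module whose restriction to the fibre at a point is ample
has ample pullback to the base change to the local scheme at the point. -/
theorem isAmple_baseChange_stalk (hL : PicF.IsInvertible L)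
    (hy : CohB1.IsAmple ((Scheme.Modules.pullback (f.fiberι y)).obj L)) :
    CohB1.IsAmple
      ((Scheme.Modules.pullback (pullback.fst f (Y.fromSpecStalk y))).obj L) := by
  haveI := isProper_overStalk f y
  have hJ : IsLocalRing.maximalIdeal ↑(Y.presheaf.stalk y) ≤
      Ideal.jacobson (⊥ : Ideal ↑(Y.presheaf.stalk y)) :=
    (IsLocalRing.jacobson_eq_maximalIdeal ⊥ bot_ne_top).ge
  have hL' := PullGen.isInvertible_pullback (pullback.fst f (Y.fromSpecStalk y)) hL
  refine isAmple_of_isAmple_thick ↑(Y.presheaf.stalk y)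
    (IsLocalRing.maximalIdeal ↑(Y.presheaf.stalk y)) hJ hL' ?_
  have hP := isPullback_closedFibre f y
  have he : hP.isoPullback.hom ≫ f.fiberι y =
      pJ ↑(Y.presheaf.stalk y) (IsLocalRing.maximalIdeal ↑(Y.presheaf.stalk y))
        (pullback f (Y.fromSpecStalk y)) ≫ pullback.fst f (Y.fromSpecStalk y) :=
    hP.isoPullback_hom_fst
  have h1 := PullAmple.isAmple_pullback_of_isQuasiAffine hP.isoPullback.hom
    (PullAmple.isQuasiAffine_of_isAffineHom hP.isoPullback.hom) hy
  exact TwistAmpleOpen.isAmple_of_iso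
    ((pullbackFacIso he L).symm ≪≫
      pullbackFacIso (rfl : pJ ↑(Y.presheaf.stalk y)
        (IsLocalRing.maximalIdeal ↑(Y.presheaf.stalk y))
        (pullback f (Y.fromSpecStalk y)) ≫ pullback.fst f (Y.fromSpecStalk y) = _) L) h1

end Stalk

section Spread

variable {X Y : Scheme.{u}} (f : X ⟶ Y) (y : Y) (L : X.Modules)

/-- **ampleness over the local ring spreads out**: if the pullback of an invertible module to the
base change to the local scheme at a point is ample, then the module is ample over an affine open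
neighbourhood of the point. -/
theorem exists_nbhd_isAmple [QuasiCompact f] [QuasiSeparated f] (hL : PicF.IsInvertible L)
    (hamp : CohB1.IsAmple
      ((Scheme.Modules.pullback (pullback.fst f (Y.fromSpecStalk y))).obj L)) :
    ∃ V : Y.Opens, IsAffineOpen V ∧ y ∈ V ∧ CohB1.IsAmple (L.restrict (f ⁻¹ᵁ V).ι) := by
  obtain ⟨W⟩ := (inferInstance : Nonempty (Nb Y y))
  obtain ⟨hc⟩ := isLimit_nbCone Y y
  haveI : QuasiCompact (f ∣_ W.1) := MorphismProperty.of_isPullback (P := @QuasiCompact)
    (isPullback_morphismRestrict f W.1).flip inferInstance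
  haveI : QuasiSeparated (f ∣_ W.1) := MorphismProperty.of_isPullback (P := @QuasiSeparated)
    (isPullback_morphismRestrict f W.1).flip inferInstance
  haveI : IsAffine (W.1.toScheme) := W.2.1
  haveI : CompactSpace ↥(f ⁻¹ᵁ W.1).toScheme :=
    QuasiCompact.compactSpace_of_compactSpace (f ∣_ W.1)
  haveI : QuasiSeparatedSpace ↥(f ⁻¹ᵁ W.1).toScheme :=
    quasiSeparatedSpace_of_quasiSeparated (f ∣_ W.1)
  have hTc : IsCompact ((⊤ : (↑(f ⁻¹ᵁ W.1) : Scheme.{u}).Opens) :
      Set ↥(↑(f ⁻¹ᵁ W.1) : Scheme.{u})) := by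
    rw [TopologicalSpace.Opens.coe_top]
    exact isCompact_univ
  haveI : CompactSpace (↑(⊤ : (↑(f ⁻¹ᵁ W.1) : Scheme.{u}).Opens) : Scheme.{u}) :=
    isCompact_iff_compactSpace.mp hTc
  haveI : QuasiSeparatedSpace (↑(⊤ : (↑(f ⁻¹ᵁ W.1) : Scheme.{u}).Opens) : Scheme.{u}) :=
    quasiSeparatedSpace_of_quasiSeparated (⊤ : (↑(f ⁻¹ᵁ W.1) : Scheme.{u}).Opens).ι
  haveI hcX' : CompactSpace ↥(pullback f (Y.fromSpecStalk y)) := hamp.2.1
  have hL₀ : PicF.IsInvertible (L.restrict (f ⁻¹ᵁ W.1).ι) :=
    AmpleLib.isInvertible_restrict (f ⁻¹ᵁ W.1).ι hL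
  let e1 : (Scheme.Modules.pullback (pullback.fst f (Y.fromSpecStalk y))).obj L ≅
      (Scheme.Modules.pullback (toPreimage f W)).obj (L.restrict (f ⁻¹ᵁ W.1).ι) :=
    pullbackFacIso (toPreimage_ι f W) L ≪≫
      (Scheme.Modules.pullback (toPreimage f W)).mapIso
        ((Scheme.Modules.restrictFunctorIsoPullback (f ⁻¹ᵁ W.1).ι).app L).symm
  have h1 := TwistAmpleOpen.isAmple_of_iso e1 hamp
  have hcpt : IsCompact (((toPreimage f W) ⁻¹ᵁ (⊤ : (↑(f ⁻¹ᵁ W.1) : Scheme.{u}).Opens) :
      (pullback f (Y.fromSpecStalk y)).Opens) : Set ↥(pullback f (Y.fromSpecStalk y))) := by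
    rw [Scheme.Hom.preimage_top, TopologicalSpace.Opens.coe_top]
    exact isCompact_univ
  have h2 := AmpleLib.isAmple_restrict_of_isCompact h1 _ hcpt
  obtain ⟨l, hl⟩ := LimAmple.exists_stage_open (nbDiag Y y) (nbCone Y y) hc W (f ∣_ W.1)
    (L.restrict (f ⁻¹ᵁ W.1).ι) hL₀ (toPreimage f W) (pullback.snd f (Y.fromSpecStalk y))
    (isPullback_toPreimage f W) ⊤ h2
  have h3 := hl l (𝟙 l)
  have hinv : PicF.IsInvertible ((Scheme.Modules.pullback
      (pullback.fst (f ∣_ W.1) ((nbDiag Y y).map l.hom))).obj (L.restrict (f ⁻¹ᵁ W.1).ι)) :=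
    PullGen.isInvertible_pullback _ hL₀
  have h4 : CohB1.IsAmple ((Scheme.Modules.pullback
      (pullback.fst (f ∣_ W.1) ((nbDiag Y y).map l.hom))).obj (L.restrict (f ⁻¹ᵁ W.1).ι)) :=
    AmpleLib.isAmple_of_restrict_top hinv _ (Scheme.Hom.preimage_top _) h3
  have hP := isPullback_stage f W l
  have h5 := PullAmple.isAmple_pullback_of_isQuasiAffine (stageIso f l.left.1 hP).inv
    (PullAmple.isQuasiAffine_of_isAffineHom (stageIso f l.left.1 hP).inv) h4
  let ε : (Scheme.Modules.pullback (stageIso f l.left.1 hP).inv).obj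
      ((Scheme.Modules.pullback
        (pullback.fst (f ∣_ W.1) ((nbDiag Y y).map l.hom))).obj (L.restrict (f ⁻¹ᵁ W.1).ι)) ≅
      L.restrict (f ⁻¹ᵁ l.left.1).ι :=
    (Scheme.Modules.pullback (stageIso f l.left.1 hP).inv).mapIso
      ((Scheme.Modules.pullback (pullback.fst (f ∣_ W.1) ((nbDiag Y y).map l.hom))).mapIso
          ((Scheme.Modules.restrictFunctorIsoPullback (f ⁻¹ᵁ W.1).ι).app L) ≪≫
        (pullbackFacIso (rfl : pullback.fst (f ∣_ W.1) ((nbDiag Y y).map l.hom) ≫
          (f ⁻¹ᵁ W.1).ι = _) L).symm) ≪≫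
      (pullbackFacIso (stageIso_inv_m f l.left.1 hP) L).symm ≪≫
      ((Scheme.Modules.restrictFunctorIsoPullback (f ⁻¹ᵁ l.left.1).ι).app L).symm
  exact ⟨l.left.1, l.left.2.1, l.left.2.2, TwistAmpleOpen.isAmple_of_iso ε h5⟩

end Spread

section Main

variable {X Y : Scheme.{u}} (f : X ⟶ Y) [IsProper f] [IsLocallyNoetherian Y] (L : X.Modules)

/-- **ampleness on a fibre spreads out** (EGA III 4.7.1): for a proper morphism to a locally
Noetherian scheme, an invertible module whose restriction to the fibre at a point is ample is ample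
over an affine open neighbourhood of the point. -/
theorem exists_affine_nbhd_isAmple_of_fibre (hL : PicF.IsInvertible L) (y : Y)
    (hy : CohB1.IsAmple ((Scheme.Modules.pullback (f.fiberι y)).obj L)) :
    ∃ V : Y.Opens, IsAffineOpen V ∧ y ∈ V ∧ CohB1.IsAmple (L.restrict (f ⁻¹ᵁ V).ι) :=
  exists_nbhd_isAmple f y L hL (isAmple_baseChange_stalk f y L hL hy)

/-- the form with all the affine opens inside the neighbourhood. -/
theorem exists_nbhd_forall_affine_isAmple_of_fibre (hL : PicF.IsInvertible L) (y : Y)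
    (hy : CohB1.IsAmple ((Scheme.Modules.pullback (f.fiberι y)).obj L)) :
    ∃ V : Y.Opens, y ∈ V ∧ ∀ W : Y.Opens, W ≤ V → IsAffineOpen W →
      CohB1.IsAmple (L.restrict (f ⁻¹ᵁ W).ι) := by
  obtain ⟨V, hV, hyV, hamp⟩ := exists_affine_nbhd_isAmple_of_fibre f L hL y hy
  refine ⟨V, hyV, fun W hWV hW => ?_⟩
  exact isAmple_restrict_of_le L (f.preimage_mono hWV)
    (QuasiCompact.isCompact_preimage (f := f) _ W.2 hW.isCompact) hamp

end Main

end Groth.Agent.Helper7.FibAmple
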