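import Mathlib
import Groth.Agent.Lib.Helper7.FibAmple.Nbhd
import Groth.Agent.Lib.Helper1.SerreAmple1
import Groth.Agent.Lib.Helper1.RpushLoc1
import Groth.Agent.Lib.Helper1.RelAmpleCrit
import Groth.Agent.Lib.Helper1.CohRestr
import Groth.Agent.Lib.Helper1.RelSerre1
import Groth.Agent.Lib.Helper3.RpushStalk1
import Groth.Agent.Lib.Helper4.HUon1

set_option linter.style.haveILetI false
set_option linter.unusedVariables false
set_option linter.unusedSectionVars false
set_option autoImplicit false
set_option backward.isDefEq.respectTransparency.types false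
set_option synthInstance.maxHeartbeats 400000
set_option maxHeartbeats 1600000

universe u

/-! helper7: vanishing of the stalks of the higher direct images of the high twists by an invertible module ample on the fibre (EGA III 4.7.1), from the spreading out of ampleness and Serre vanishing over an affine neighbourhood -/

open CategoryTheory CategoryTheory.Limits AlgebraicGeometry Opposite TopologicalSpace

namespace Groth.Agent.Helper7.FibAmple

open Groth.Agent.Helper1.TwForm Groth.Agent.Helper1

/-- **vanishing of the stalks of the higher direct images of the high twists** (EGA III 4.7.1):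
for a proper morphism to a Noetherian scheme and an invertible module which is ample on the fibre
at a point. -/
theorem isZero_stalk_rpush_twist {X Y : Scheme.{u}} (f : X ⟶ Y) [IsProper f] [IsNoetherian Y]
    (L : X.Modules) (hL : PicF.IsInvertible L) (M : X.Modules) (hM : Coh.IsCoh M) (y : Y)
    (hy : CohB1.IsAmple ((Scheme.Modules.pullback (f.fiberι y)).obj L)) :
    ∃ d₀ : ℕ, ∀ d : ℕ, d₀ ≤ d → ∀ p : ℕ, 0 < p →
      Limits.IsZero (TopCat.Presheaf.stalk
        ((Coh.RpushAb f p).obj (Coh.toAb (CohB1.tensorMod M (CohB1.tensorPow L d)))).obj y) := by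
  obtain ⟨V, hV, hyV, hamp⟩ := exists_affine_nbhd_isAmple_of_fibre f L hL y hy
  haveI : IsNoetherianRing Γ(Y, V) := IsLocallyNoetherian.component_noetherian ⟨V, hV⟩
  haveI : IsProper (RpushLoc.strMap f hV) := by
    unfold RpushLoc.strMap
    infer_instance
  obtain ⟨n₀, hn₀⟩ := SerreAmple.serre_vanishing Γ(Y, V) (RpushLoc.strMap f hV)
    hamp (M.restrict (f ⁻¹ᵁ V).ι) (FinPush.isCoh_restrict _ M hM)
  refine ⟨n₀, fun n hn p hp => ?_⟩
  have hloc := locFrame_of_isInvertible hamp.1 hamp.1
  let e := RelAmpleLib.restrictTwistIso (f ⁻¹ᵁ V).ι (Iso.refl (M.restrict (f ⁻¹ᵁ V).ι))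
    hloc n
  have hsub : Subsingleton
      (Coh.HHon X (CohB1.tensorMod M (CohB1.tensorPow L n)) (f ⁻¹ᵁ V) p) :=
    RpushLoc.subsingleton_HH_of_iso e.symm p (hn₀ n hn p hp)
  haveI : M.IsQuasicoherent := hM.1
  haveI : (CohB1.tensorPow L n).IsQuasicoherent :=
    InvQc.isQuasicoherent_of_isInvertible _ (isInvertible_tensorPow hL n)
  haveI : (CohB1.tensorMod M (CohB1.tensorPow L n)).IsQuasicoherent :=
    Groth.Agent.Lead.TilT.isQuasicoherent_tensorMod _ _
  refine Groth.Agent.Helper3.RpushStalk.isZero_stalk_rpush f.base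
    (Coh.toAb (CohB1.tensorMod M (CohB1.tensorPow L n))) p y V hyV Y.affineOpens
    Y.isBasis_affineOpens (fun W hW hle' => ?_)
  obtain ⟨e'⟩ := Groth.Agent.Lib.Helper4.HUon1.nonempty_HU_equiv_HHon
    (CohB1.tensorMod M (CohB1.tensorPow L n)) (f ⁻¹ᵁ W) p
  haveI := RpushLoc.subsingleton_HHon_of_le f (CohB1.tensorMod M (CohB1.tensorPow L n)) p hV hW
    hle' hsub
  exact e'.toEquiv.subsingleton

end Groth.Agent.Helper7.FibAmple
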